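import Groth.Agent.Lib.PicThick4.Main

/-!
# Torsion invertible modules along thickenings
-/

set_option autoImplicit false
set_option linter.style.haveILetI false
set_option backward.isDefEq.respectTransparency false
set_option backward.isDefEq.respectTransparency.types false

universe u

open CategoryTheory AlgebraicGeometry TopologicalSpace Opposite

namespace Groth.Agent.TorsThick

open Groth.Agent Groth.Agent.PicThick4

variable {X : Scheme.{u}}

/-- The coordinate of a generator under a trivialisation is a unit. -/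
theorem isUnit_coord {M : X.Modules} (φ : M ≅ Coh.structureModule X) {U : X.Opens} {e : Γ(M, U)}
    (he : Twist.IsGen M U e) : IsUnit (show Γ(X, U) from φ.hom.app U e) := by
  obtain ⟨r, hr⟩ := (he U le_rfl).2 (φ.inv.app U (M1.one U))
  simp only [M1.mres_id] at hr
  obtain ⟨z, hz⟩ : ∃ z : Γ(X, U), (show Γ(Coh.structureModule X, U) from z) = φ.hom.app U e := ⟨_, rfl⟩
  have h1 := congrArg (φ.hom.app U) hr
  rw [Scheme.Modules.Hom.app_smul, ← hz] at h1
  have h3 : φ.hom.app U (φ.inv.app U (M1.one U)) = M1.one U := by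
    rw [← ConcreteCategory.comp_apply, ← Scheme.Modules.Hom.comp_app, φ.inv_hom_id]
    rfl
  rw [h3] at h1
  show IsUnit (show Γ(X, U) from φ.hom.app U e)
  rw [← hz]
  exact IsUnit.of_mul_eq_one_right r h1

variable {X' : Scheme.{u}} (i : X ⟶ X') [IsClosedImmersion i] [Surjective i]

/-- An invertible module trivial on the thin scheme with trivial `n`-th power is trivial, when units of the
thin scheme are `n`-th powers up to units of the thick one. -/
theorem trivial_of_root (n : ℕ) (hu : IsUnit (n : Γ(X, ⊤)))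
    (hunits : ∀ w : Γ(X, ⊤), IsUnit w → ∃ (v : Γ(X, ⊤)) (C : Γ(X', ⊤)),
      IsUnit v ∧ IsUnit C ∧ w = v ^ n * i.appTop C)
    {M : X'.Modules} (hM : PicF.IsInvertible M)
    (φ : CohB1.tensorPow M n ≅ Coh.structureModule X')
    (ψ : (Scheme.Modules.pullback i).obj M ≅ Coh.structureModule X) :
    Nonempty (M ≅ Coh.structureModule X') := by
  classical
  have hex : ∀ y : X', ∃ (D : X'.Opens) (e : Γ(M, D)), y ∈ D ∧ Twist.IsGen M D e := by
    intro y
    obtain ⟨U, e, hy, -, -, he⟩ := Amp.exists_isGenerator hM (V := ⊤) (x := y) trivial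
    exact ⟨U, e, hy, he⟩
  choose D e hyD he using hex
  have hcov' : ⨆ x, D x = ⊤ := top_le_iff.1 fun y _ => Opens.mem_iSup.2 ⟨y, hyD y⟩
  have hpw : ∀ x, Twist.IsGen (CohB1.tensorPow M n) (D x) (Amp.pw (e x) n) := fun x =>
    Twist.isGen_of_stalk fun _ hz => Amp.gen_pw hM hz (e x) n ((he x).stalk hz)
  let t : ∀ x, Γ(X', D x) := fun x => φ.hom.app (D x) (Amp.pw (e x) n)
  let a : ∀ x, Γ(X, i ⁻¹ᵁ D x) := fun x => ψ.hom.app (i ⁻¹ᵁ D x) (M2.pullSec i M (e x))
  have htu : ∀ x, IsUnit (t x) := fun x => isUnit_coord φ (hpw x)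
  have hau : ∀ x, IsUnit (a x) := fun x => isUnit_coord ψ ((he x).pullback i)
  choose T hT using fun x => (htu x).exists_right_inv
  choose A hA using fun x => (hau x).exists_right_inv
  -- transformation under change of generators
  have hrel : ∀ x y (V : X'.Opens) (hx : V ≤ D x) (hy : V ≤ D y) (s : Γ(X', V)),
      M1.mres M hy (e y) = s • M1.mres M hx (e x) →
      rs hy (t y) = s ^ n * rs hx (t x) ∧
        rs (i.preimage_mono hy) (a y) = i.app V s * rs (i.preimage_mono hx) (a x) := by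
    intro x y V hx hy s hs
    constructor
    · have h1 : M1.mres _ hy (Amp.pw (e y) n) = s ^ n • M1.mres _ hx (Amp.pw (e x) n) := by
        refine (Amp.res_pw _ (e y) n).trans ?_
        show Amp.pw (M1.mres M hy (e y)) n = _
        rw [hs, Amp.pw_smul]
        exact congrArg (s ^ n • ·) (Amp.res_pw _ (e x) n).symm
      have h2 := congrArg (φ.hom.app V) h1
      rw [Scheme.Modules.Hom.app_smul, M1.app_mres, M1.app_mres] at h2
      exact h2
    · have key : ∀ {U W : X'.Opens} (h : W ≤ U) (r : Γ(M, U)),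
          M1.mres ((Scheme.Modules.pullback i).obj M) (i.preimage_mono h) (M2.pullSec i M r) =
            M2.pullSec i M (M1.mres M h r) := fun h r =>
        (M1.app_mres ((Scheme.Modules.pullbackPushforwardAdjunction i).unit.app M) h r).symm
      have h1 : M1.mres _ (i.preimage_mono hy) (M2.pullSec i M (e y)) =
          i.app V s • M1.mres _ (i.preimage_mono hx) (M2.pullSec i M (e x)) := by
        rw [key hy, key hx, hs, M2.pullSec_smul]
      have h2 := congrArg (ψ.hom.app (i ⁻¹ᵁ V)) h1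
      rw [Scheme.Modules.Hom.app_smul, M1.app_mres, M1.app_mres] at h2
      exact h2
  have hinv : ∀ {Z : Scheme.{u}} {U V : Z.Opens} (h : V ≤ U) {p q : Γ(Z, U)}, p * q = 1 → rs h p * rs h q = 1 :=
    fun h _ _ hpq => by rw [← map_mul, hpq, map_one]
  -- the comparison unit
  let wl : ∀ x, Γ(X, i ⁻¹ᵁ D x) := fun x => i.app (D x) (t x) * A x ^ n
  have hcovX : (⊤ : X.Opens) ≤ ⨆ x, i ⁻¹ᵁ D x := by
    rw [← Scheme.Hom.preimage_iSup, hcov', Scheme.Hom.preimage_top]
  have hcompat : TopCat.Presheaf.IsCompatible X.sheaf.1 (fun x => i ⁻¹ᵁ D x) wl := by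
    intro x y
    obtain ⟨s, hs⟩ := (he x (D x ⊓ D y) inf_le_left).2 (M1.mres M inf_le_right (e y))
    obtain ⟨h1, h2⟩ := hrel x y _ inf_le_left inf_le_right s hs.symm
    show rs (i.preimage_mono (inf_le_left : D x ⊓ D y ≤ D x)) (wl x) =
      rs (i.preimage_mono (inf_le_right : D x ⊓ D y ≤ D y)) (wl y)
    simp only [wl, map_mul, map_pow]
    rw [← app_rs i (inf_le_left : D x ⊓ D y ≤ D x), ← app_rs i (inf_le_right : D x ⊓ D y ≤ D y), h1, map_mul, map_pow, app_rs]
    have hAy := hinv (i.preimage_mono (inf_le_right : D x ⊓ D y ≤ D y)) (hA y)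
    have hAx := hinv (i.preimage_mono (inf_le_left : D x ⊓ D y ≤ D x)) (hA x)
    rw [h2] at hAy
    have h4 : rs (i.preimage_mono (inf_le_left : D x ⊓ D y ≤ D x)) (A x) =
        i.app (D x ⊓ D y) s * rs (i.preimage_mono (inf_le_right : D x ⊓ D y ≤ D y)) (A y) := by
      linear_combination (i.app (D x ⊓ D y) s * rs (i.preimage_mono inf_le_right) (A y)) * hAx -
        rs (i.preimage_mono inf_le_left) (A x) * hAy
    rw [h4, mul_pow]
    ring
  obtain ⟨w, hw, -⟩ := X.sheaf.existsUnique_gluing' (fun x => i ⁻¹ᵁ D x) ⊤ (fun x => homOfLE le_top) hcovX wl hcompat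
  have hw' : ∀ x, rs (le_top : i ⁻¹ᵁ D x ≤ ⊤) w = wl x := hw
  have hwu : IsUnit w := by
    refine RingedSpace.isUnit_of_isUnit_germ X.toRingedSpace ⊤ w fun z _ => ?_
    obtain ⟨x, hx⟩ := Opens.mem_iSup.1 (hcovX (x := z) trivial)
    have h1 : IsUnit (wl x) :=
      (((htu x).map (i.app (D x)).hom)).mul ((IsUnit.of_mul_eq_one_right _ (hA x)).pow n)
    have h2 := h1.map (X.presheaf.germ _ z hx).hom
    rw [← hw' x] at h2
    have h3 := TopCat.Presheaf.germ_res_apply X.presheaf (homOfLE (le_top : i ⁻¹ᵁ D x ≤ ⊤)) z hx w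
    exact h3 ▸ h2
  obtain ⟨v, C, hv, hC, hvC⟩ := hunits w hwu
  obtain ⟨vi, hvi⟩ := hv.exists_right_inv
  -- local roots
  have hun : ∀ V : X'.Opens, IsUnit (n : Γ(X, i ⁻¹ᵁ V)) := fun V => by
    simpa using hu.map (rs (le_top : i ⁻¹ᵁ V ≤ ⊤))
  have hroot : ∀ x, ∃ r : Γ(X', D x), r ^ n = rs le_top C * T x ∧
      i.app (D x) r = A x * rs le_top vi := by
    intro x
    refine root_exists i hu _ _ ((IsUnit.of_mul_eq_one_right _ (hA x)).mul ((IsUnit.of_mul_eq_one_right _ hvi).map _)) ?_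
    rw [map_mul, app_rs]
    show rs (le_top : i ⁻¹ᵁ D x ≤ ⊤) (i.appTop C) * i.app (D x) (T x) = _
    have h1 := hw' x
    rw [hvC, map_mul, map_pow] at h1
    have h2 : i.app (D x) (t x) * i.app (D x) (T x) = 1 := by rw [← map_mul, hT, map_one]
    have h3 := hinv (le_top : i ⁻¹ᵁ D x ≤ ⊤) hvi
    have h4 : rs (le_top : i ⁻¹ᵁ D x ≤ ⊤) v ^ n * rs (le_top : i ⁻¹ᵁ D x ≤ ⊤) vi ^ n = 1 := by
      rw [← mul_pow, h3, one_pow]
    simp only [wl] at h1
    rw [mul_pow]
    linear_combination (i.app (D x) (T x) * rs (le_top : i ⁻¹ᵁ D x ≤ ⊤) vi ^ n) * h1 -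
      (rs (le_top : i ⁻¹ᵁ D x ≤ ⊤) (i.appTop C) * i.app (D x) (T x)) * h4 +
      (A x ^ n * rs (le_top : i ⁻¹ᵁ D x ≤ ⊤) vi ^ n) * h2
  choose r hr hri using hroot
  have hru : ∀ x, IsUnit (r x) := fun x => isUnit_of_app i _ (by
    rw [hri]
    exact (IsUnit.of_mul_eq_one_right _ (hA x)).mul ((IsUnit.of_mul_eq_one_right _ hvi).map _))
  choose S hS using fun x => (hru x).exists_right_inv
  refine ⟨(Twist.exists_iso_of_gen D hcov' e (fun x => S x • M1.one (X := X') (D x)) he
    (fun x => isGen_unit_smul _ _ (IsUnit.of_mul_eq_one_right _ (hS x))) ?_).choose⟩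
  intro x y V hx hy s hs
  obtain ⟨h1, h2⟩ := hrel x y V hx hy s hs
  have hrr : rs hx (r x) = s * rs hy (r y) := by
    refine root_unique i (hun V) ?_ ?_ ?_
    · rw [map_mul, app_rs, app_rs, hri, hri, map_mul, map_mul, rs_rs, rs_rs]
      have hAy := hinv (i.preimage_mono hy) (hA y)
      have hAx := hinv (i.preimage_mono hx) (hA x)
      rw [h2] at hAy
      linear_combination (i.app V s * rs (i.preimage_mono hy) (A y) *
        rs (le_top : i ⁻¹ᵁ V ≤ ⊤) vi) * hAx -
        (rs (i.preimage_mono hx) (A x) * rs (le_top : i ⁻¹ᵁ V ≤ ⊤) vi) * hAy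
    · rw [map_mul]
      exact IsUnit.mul (isUnit_of_mul_isUnit_left (h2 ▸ (hau y).map (rs (i.preimage_mono hy)))) (((hru y).map (rs hy)).map _)
    · rw [mul_pow, ← map_pow, ← map_pow, hr, hr, map_mul, map_mul, rs_rs, rs_rs]
      have hTy := hinv hy (hT y)
      have hTx := hinv hx (hT x)
      rw [h1] at hTy
      linear_combination (s ^ n * rs hy (T y) * rs (le_top : V ≤ ⊤) C) * hTx -
        (rs hx (T x) * rs (le_top : V ≤ ⊤) C) * hTy
  rw [M1.mres_smul, M1.mres_smul, M1.mres_one, M1.mres_one, ← mul_smul]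
  congr 1
  have hSx := hinv hx (hS x)
  have hSy := hinv hy (hS y)
  rw [hrr] at hSx
  show rs hy (S y) = s * rs hx (S x)
  linear_combination (-rs hy (S y)) * hSx + (s * rs hx (S x)) * hSy

end Groth.Agent.TorsThick
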