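import Groth.Agent.Lib.TorsThick.Basic
import Groth.Agent.Lib.FGA3.FormalTriv
import Groth.Agent.Lib.FGA3.TorsionLift
import Groth.Agent.Lib.RigidRel.H0Geom
import Groth.Agent.Lib.SchDesc12.QAffine
import Groth.Agent.Lib.ArInter.ModelInt
import Groth.Agent.Lib.ArInter.Model
import Groth.Agent.Lib.ArInter.FieldConst
import Groth.Agent.Lib.ArInter.Geometric
import Groth.Agent.Lib.Twist.Pullback
import Groth.Agent.S2431
import Groth.Agent.S7856

/-!
# Prime-to-characteristic torsion of the Picard group is detected on the reduced closed fibre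
-/

set_option autoImplicit false
set_option linter.style.haveILetI false
set_option backward.isDefEq.respectTransparency false

universe u

open CategoryTheory CategoryTheory.Limits AlgebraicGeometry TopologicalSpace Opposite IsLocalRing

namespace Groth.Agent.TorsThick

/-- A proper model with constant functions has sheaf-theoretically constant functions. -/
theorem isIso_app_of_appTop {R : Type u} [CommRing R] {X : Scheme.{u}} (p : X ⟶ Spec (CommRingCat.of R))
    [QuasiCompact p] [QuasiSeparated p] (h : Function.Bijective p.appTop.hom) (V : (Spec (CommRingCat.of R)).Opens) :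
    IsIso (p.app V) := by
  haveI : IsIso p.appTop := (ConcreteCategory.isIso_iff_bijective _).mpr h
  haveI : CompactSpace X := QuasiCompact.compactSpace_of_compactSpace p
  haveI : QuasiSeparatedSpace X := quasiSeparatedSpace_of_quasiSeparated p
  refine RigidRel.isIso_app_of_bijective p (fun U hU => ?_) V
  haveI : IsAffine U := hU
  haveI h1 := SchDesc12.isIso_appTop_snd p U.ι
  let e := (isPullback_morphismRestrict p U).flip.isoPullback
  have he : e.hom ≫ pullback.snd p U.ι = p ∣_ U := IsPullback.isoPullback_hom_snd _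
  haveI : IsIso (p ∣_ U).appTop := by rw [← he, Scheme.Hom.comp_appTop]; infer_instance
  have h2 : (p ∣_ U).appTop = _ := morphismRestrict_app p U ⊤
  haveI : IsIso (p.app (U.ι ''ᵁ ⊤)) := by
    have : IsIso ((p ∣_ U).appTop) := inferInstance
    rw [h2] at this
    refine @IsIso.of_isIso_comp_right _ _ _ _ _ (p.app (U.ι ''ᵁ ⊤)) _ ?_ this
    infer_instance
  have hU' : U.ι ''ᵁ ⊤ = U := U.ι_image_top
  exact (ConcreteCategory.isIso_iff_bijective (p.app U)).1 (hU' ▸ (‹IsIso (p.app (U.ι ''ᵁ ⊤))›))

/-- A surjective closed subscheme of a geometrically connected scheme is geometrically connected. -/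
theorem geometricallyConnected_of_surjective {X Y S : Scheme.{u}} (j : Y ⟶ X) [IsClosedImmersion j] [Surjective j]
    (f : X ⟶ S) [GeometricallyConnected f] : GeometricallyConnected (j ≫ f) := by
  refine ⟨fun K _ y Z fst snd hpb => ?_⟩
  let W := pullback f y
  let m : Z ⟶ W := pullback.lift (fst ≫ j) snd (by rw [Category.assoc]; exact hpb.w)
  have hsq : IsPullback fst m j (pullback.fst f y) := by
    refine IsPullback.of_bot ?_ (pullback.lift_fst _ _ _).symm (IsPullback.of_hasPullback f y)
    rw [pullback.lift_snd]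
    exact hpb
  haveI : IsClosedImmersion m := MorphismProperty.of_isPullback hsq inferInstance
  haveI : Surjective m := MorphismProperty.of_isPullback hsq inferInstance
  haveI : ConnectedSpace W := GeometricallyConnected.geometrically_connectedSpace _ _ _ (IsPullback.of_hasPullback f y)
  exact (m.isEmbedding.toHomeomorphOfSurjective m.surjective).connectedSpace_iff.2 inferInstance

theorem coprime_ringExpChar_pow (k : Type u) [Field k] {n : ℕ} (hn : (n : k) ≠ 0) (e : ℕ) :
    Nat.Coprime (ringExpChar k ^ e) n := by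
  refine Nat.Coprime.pow_left e ?_
  obtain ⟨p, hp⟩ := CharP.exists k
  rcases CharP.char_is_prime_or_zero k p with hprime | rfl
  · haveI := ExpChar.prime (R := k) hprime
    rw [ringExpChar.eq k p]
    exact hprime.coprime_iff_not_dvd.2 fun hd => hn ((CharP.cast_eq_zero_iff k p n).2 hd)
  · haveI := CharP.charP_to_charZero k
    rw [ringExpChar.eq k 1]
    exact Nat.coprime_one_left n

attribute [local instance] M2.law in
theorem nonempty_tensorPow_pullback {X Y : Scheme.{u}} (f : Y ⟶ X) {M : X.Modules} (hM : PicF.IsInvertible M) (n : ℕ)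
    (h : Nonempty (CohB1.tensorPow M n ≅ Coh.structureModule X)) :
    Nonempty (CohB1.tensorPow ((Scheme.Modules.pullback f).obj M) n ≅ Coh.structureModule Y) := by
  obtain ⟨φ⟩ := h
  have hf := PicLoc.isInvertible_pullback f hM
  have h1 : PicGrp.cls _ (M2.isInvertible_tensorPow hf n) =
      PicGrp.cls _ (PicLoc.isInvertible_pullback f (M2.isInvertible_tensorPow hM n)) := by
    rw [FGA3.cls_tensorPow hf, ← PicGrp.pullHom_cls f (M2.pullMul _) M hM, ← map_pow, ← FGA3.cls_tensorPow hM,
      PicGrp.pullHom_cls]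
  obtain ⟨e⟩ := (PicGrp.cls_eq_cls_iff _ _).1 h1
  exact ⟨e ≪≫ (Scheme.Modules.pullback f).mapIso φ ≪≫ PicLoc.pullbackStructureIso f⟩

variable {R : Type u} [CommRing R] [IsDomain R] [IsDiscreteValuationRing R]
  {C X : Scheme.{u}} {f : C ⟶ Spec (CommRingCat.of (FractionRing R))} {p : X ⟶ Spec (CommRingCat.of R)}

theorem trivial_of_redFibre (hC : Curve.IsSmoothProperCurve (FractionRing R) C f) (hH0 : IsIso f.appTop)
    (hX : Models.IsRegularProperModel R X p C f) (h : ℕ)
    (hk : (h : ResidueField R) ≠ 0)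
    {M : X.Modules} (hM : PicF.IsInvertible M)
    (htors : Nonempty (CohB1.tensorPow M h ≅ Coh.structureModule X))
    (htriv : Nonempty ((Scheme.Modules.pullback (Models.redFibreIdeal R (Over.mk p)).subschemeι).obj M ≅
      Coh.structureModule (Models.redFibreIdeal R (Over.mk p)).subscheme)) :
    Nonempty (M ≅ Coh.structureModule X) := by
  haveI : IsProper p := hX.2.1
  letI : X.Over (Spec (CommRingCat.of R)) := ⟨p⟩
  haveI : IsProper (X ↘ Spec (CommRingCat.of R)) := ‹IsProper p›
  refine FGA3.nonempty_iso_of_trivial_thickenings (maximalIdeal R) le_rfl hM fun N => ?_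
  let J := maximalIdeal R ^ (N + 1)
  let Z := (Models.redFibreIdeal R (Over.mk p)).subscheme
  let ι : Z ⟶ X := (Models.redFibreIdeal R (Over.mk p)).subschemeι
  have hrange : Set.range ι = Models.specialFibreSet R (Over.mk p) := by
    show Set.range (Models.redFibreIdeal R (Over.mk p)).subschemeι = _
    rw [Scheme.IdealSheafData.range_subschemeι]
    exact Scheme.IdealSheafData.coe_support_vanishingIdeal _
  haveI : AlgebraicGeometry.IsReduced Z := RedSepLib.isReduced_vanishingIdeal_subscheme _
  haveI : CompactSpace X := QuasiCompact.compactSpace_of_compactSpace p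
  haveI : CompactSpace Z := QuasiCompact.compactSpace_of_compactSpace ι
  let φ : R →+* Γ(Z, ⊤) := ((Scheme.ΓSpecIso (CommRingCat.of R)).inv ≫ (ι ≫ p).appTop).hom
  have hspec : Z.toSpecΓ ≫ Spec.map (CommRingCat.ofHom φ) = ι ≫ p := by
    show Z.toSpecΓ ≫ Spec.map ((Scheme.ΓSpecIso (CommRingCat.of R)).inv ≫ (ι ≫ p).appTop) = _
    rw [Spec.map_comp, ← Category.assoc, ← Scheme.toSpecΓ_naturality, Category.assoc,
      toSpecΓ_SpecMap_ΓSpecIso_inv, Category.comp_id]
  have hφ : ∀ r ∈ maximalIdeal R, φ r = 0 := fun r hr => by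
    refine IsReduced.eq_zero _ ((Scheme.isNilpotent_iff_basicOpen_eq_bot_of_isCompact (X := Z) isCompact_univ (φ r)).2 ?_)
    ext z
    refine ⟨fun hz => ?_, fun hz => hz.elim⟩
    have h1 : z ∈ Z.toSpecΓ ⁻¹ᵁ PrimeSpectrum.basicOpen (φ r) := by rw [Scheme.toSpecΓ_preimage_basicOpen]; exact hz
    have h2 : p (ι z) = closedPoint R := (hrange.le ⟨z, rfl⟩ : ι z ∈ _)
    rw [← Scheme.Hom.comp_apply, ← hspec, Scheme.Hom.comp_apply] at h2
    have h3 : r ∈ ((Spec.map (CommRingCat.ofHom φ) (Z.toSpecΓ z) : Spec (CommRingCat.of R)) : PrimeSpectrum R).asIdeal :=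
      (congrArg (fun q : PrimeSpectrum R => q.asIdeal) h2).symm ▸ hr
    exact (h1 h3).elim
  have hJ : J ≤ maximalIdeal R := Ideal.pow_le_self (Nat.succ_ne_zero N)
  let lz : Z ⟶ Spec (CommRingCat.of (R ⧸ J)) :=
    Z.toSpecΓ ≫ Spec.map (CommRingCat.ofHom (Ideal.Quotient.lift J φ fun r hr => hφ r (hJ hr)))
  have hlz : ι ≫ p = lz ≫ FGA3.spQ J := by
    rw [← hspec, Category.assoc, ← Spec.map_comp]
    rfl
  let i : Z ⟶ pullback p (FGA3.spQ J) := pullback.lift ι lz hlz
  have hi : i ≫ FGA3.iq p J = ι := pullback.lift_fst _ _ _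
  haveI : IsClosedImmersion (FGA3.iq p J) := MorphismProperty.pullback_fst (P := @IsClosedImmersion) _ _ inferInstance
  haveI : IsClosedImmersion i := by
    haveI : IsClosedImmersion (i ≫ FGA3.iq p J) := by rw [hi]; infer_instance
    exact IsClosedImmersion.of_comp i (FGA3.iq p J)
  haveI : Surjective i := ⟨fun y => by
    have h1 : FGA3.iq p J y ∈ Set.range ι := by
      rw [hrange]
      show p (FGA3.iq p J y) = closedPoint R
      rw [← Scheme.Hom.comp_apply, pullback.condition, Scheme.Hom.comp_apply]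
      let w := pullback.snd p (FGA3.spQ J) y
      haveI := w.isPrime
      haveI : (Ideal.comap (Ideal.Quotient.mk J) w.asIdeal).IsPrime := Ideal.IsPrime.comap _
      have hle : J ≤ Ideal.comap (Ideal.Quotient.mk J) w.asIdeal := fun r hr => by
        show Ideal.Quotient.mk J r ∈ w.asIdeal
        rw [Ideal.Quotient.eq_zero_iff_mem.2 hr]
        exact zero_mem _
      exact PrimeSpectrum.ext ((maximalIdeal.isMaximal R).eq_of_le (Ideal.IsPrime.ne_top inferInstance)
        (Ideal.IsPrime.le_of_pow_le hle)).symm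
    obtain ⟨z, hz⟩ := h1
    exact ⟨z, (FGA3.iq p J).isEmbedding.injective (by rw [← Scheme.Hom.comp_apply, hi]; exact hz)⟩⟩
  -- constants of the reduced fibre
  have hbij := ArInter.bijective_appTop hC hH0 hX
  haveI : IsLocallyNoetherian (Spec (CommRingCat.of R)) := inferInstance
  haveI := (S2431.result p (isIso_app_of_appTop p hbij)).2
  let ψ : ResidueField R →+* Γ(Z, ⊤) := Ideal.Quotient.lift (maximalIdeal R) φ hφ
  let qs : Z ⟶ Spec (CommRingCat.of (ResidueField R)) := Z.toSpecΓ ≫ Spec.map (CommRingCat.ofHom ψ)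
  have hqs : qs ≫ Spec.map (CommRingCat.ofHom (residue R)) = ι ≫ p := by
    rw [← hspec, Category.assoc, ← Spec.map_comp]
    rfl
  let fs := pullback.snd p (Spec.map (CommRingCat.ofHom (residue R)))
  let js : Z ⟶ pullback p (Spec.map (CommRingCat.ofHom (residue R))) := pullback.lift ι qs hqs.symm
  haveI : IsClosedImmersion (Spec.map (CommRingCat.ofHom (residue R))) :=
    IsClosedImmersion.spec_of_surjective _ residue_surjective
  haveI : IsClosedImmersion (pullback.fst p (Spec.map (CommRingCat.ofHom (residue R)))) :=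
    MorphismProperty.pullback_fst (P := @IsClosedImmersion) _ _ inferInstance
  haveI : IsClosedImmersion js := by
    haveI : IsClosedImmersion (js ≫ pullback.fst p (Spec.map (CommRingCat.ofHom (residue R)))) := by
      rw [pullback.lift_fst]; infer_instance
    exact IsClosedImmersion.of_comp js (pullback.fst p (Spec.map (CommRingCat.ofHom (residue R))))
  haveI : Surjective js := ⟨fun y => by
    have h1 : pullback.fst p (Spec.map (CommRingCat.ofHom (residue R))) y ∈ Set.range ι := by
      rw [hrange]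
      exact (ArInter.range_fst_fibre (X := Over.mk p)).le ⟨y, rfl⟩
    obtain ⟨z, hz⟩ := h1
    exact ⟨z, (pullback.fst p (Spec.map (CommRingCat.ofHom (residue R)))).isEmbedding.injective
      (by rw [← Scheme.Hom.comp_apply, pullback.lift_fst]; exact hz)⟩⟩
  haveI : GeometricallyConnected qs := by
    have := geometricallyConnected_of_surjective js fs
    rwa [pullback.lift_snd] at this
  haveI : IsProper qs := by
    have : IsProper (js ≫ fs) := inferInstance
    rwa [pullback.lift_snd] at this
  obtain ⟨-, -, hpi⟩ := (S7856.result (ResidueField R) qs).1 inferInstance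
  have hψ : ∀ c, qs.appTop.hom ((Scheme.ΓSpecIso (CommRingCat.of (ResidueField R))).inv.hom c) = ψ c := fun c => by
    have h1 := congrArg (fun t => ((Scheme.ΓSpecIso (CommRingCat.of (ResidueField R))).inv ≫ t).hom c)
      (Scheme.Hom.comp_appTop Z.toSpecΓ (Spec.map (CommRingCat.ofHom ψ)))
    refine h1.trans ?_
    rw [← Scheme.ΓSpecIso_inv_naturality_assoc, Scheme.toSpecΓ_appTop]
    simp
  have hhR : IsUnit (h : R) := by
    by_contra hh
    exact hk (by rw [← map_natCast (residue R)]; exact (residue_eq_zero_iff _).2 hh)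
  have hhZ : IsUnit (h : Γ(Z, ⊤)) := by simpa using hhR.map φ
  obtain ⟨ψt⟩ := htriv
  refine trivial_of_root i h hhZ ?_ (PicLoc.isInvertible_pullback _ hM)
    (nonempty_tensorPow_pullback _ hM h htors).some
    ((Scheme.Modules.pullbackComp i (FGA3.iq p J)).app M ≪≫ (Scheme.Modules.pullbackCongr hi).app M ≪≫ ψt)
  intro w hw
  obtain ⟨e, c, hc⟩ := hpi w
  have hc' : w ^ (ringExpChar (ResidueField R) ^ e) = ψ c := by
    have := IsReduced.eq_zero _ hc
    rw [hψ] at this
    exact sub_eq_zero.1 this
  let Q := ringExpChar (ResidueField R) ^ e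
  have hcop : Nat.Coprime Q h := coprime_ringExpChar_pow (ResidueField R) hk e
  haveI : Nontrivial Γ(Z, ⊤) ∨ True := Or.inr trivial
  obtain ⟨r, rfl⟩ := residue_surjective c
  rcases subsingleton_or_nontrivial Γ(Z, ⊤) with hs | hs
  · exact ⟨1, 1, isUnit_one, isUnit_one, Subsingleton.elim _ _⟩
  have hr : IsUnit r := by
    by_contra hr
    have : ψ (residue R r) = 0 := by rw [(residue_eq_zero_iff _).2 hr, map_zero]
    exact not_isUnit_zero (this ▸ hc' ▸ hw.pow Q)
  let Φ : R →+* Γ(pullback p (FGA3.spQ J), ⊤) :=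
    ((Scheme.ΓSpecIso (CommRingCat.of R)).inv ≫ (FGA3.iq p J ≫ p).appTop).hom
  have hΦ : ∀ s, i.appTop.hom (Φ s) = φ s := fun s => by
    have h1 := congrArg (fun t : Z ⟶ Spec (CommRingCat.of R) => ((Scheme.ΓSpecIso (CommRingCat.of R)).inv ≫ t.appTop).hom s)
      (congrArg (· ≫ p) hi)
    simp only [Category.assoc, Scheme.Hom.comp_appTop] at h1
    exact h1
  let W : (Γ(Z, ⊤))ˣ := hw.unit
  let cu : (Γ(Z, ⊤))ˣ := Units.map φ.toMonoidHom hr.unit
  have hWc : W ^ Q = cu := Units.ext (by
    rw [Units.val_pow_eq_pow_val]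
    exact hc'.trans rfl)
  have hbez := Int.gcd_eq_gcd_ab (Q : ℤ) (h : ℤ)
  rw [Int.gcd_natCast_natCast, hcop.gcd_eq_one] at hbez
  let a := Int.gcdA (Q : ℤ) (h : ℤ)
  let b := Int.gcdB (Q : ℤ) (h : ℤ)
  refine ⟨((W ^ b : (Γ(Z, ⊤))ˣ) : Γ(Z, ⊤)), Φ ((hr.unit ^ a : Rˣ) : R), Units.isUnit _,
    (Units.isUnit _).map Φ, ?_⟩
  have key : W = (W ^ b) ^ h * cu ^ a := by
    rw [← hWc, ← zpow_natCast (W ^ b) h, ← zpow_natCast W Q, ← zpow_mul, ← zpow_mul, ← zpow_add,
      show b * (h : ℤ) + (Q : ℤ) * a = 1 by rw [add_comm, mul_comm b]; exact_mod_cast hbez.symm, zpow_one]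
  have hmap : cu ^ a = Units.map φ.toMonoidHom (hr.unit ^ a) := (map_zpow (Units.map φ.toMonoidHom) hr.unit a).symm
  rw [hmap] at key
  have hkey := congrArg Units.val key
  rw [Units.val_mul, Units.val_pow_eq_pow_val] at hkey
  refine hkey.trans ?_
  congr 1
  exact (hΦ _).symm

end Groth.Agent.TorsThick
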